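import Groth.Agent.RelVAFib14.Main
import Groth.Agent.Coherent.Existence.Restrict

/-!
# Very ampleness near a fibre
-/

set_option autoImplicit false
set_option linter.style.haveILetI false
set_option linter.unusedSectionVars false
set_option backward.isDefEq.respectTransparency.types false
set_option maxHeartbeats 1000000

universe u

open CategoryTheory CategoryTheory.Limits AlgebraicGeometry Opposite TopologicalSpace
open Groth.Agent.Coherent Groth.Agent.PicLib Groth.Agent.AmpleLib Groth.Agent.CohExch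
open Groth.Agent.Clifford24 Groth.Agent.RelVAFib14

namespace Groth.Agent.RelVANhd16

variable {X S : Scheme.{u}}

/-- A morphism to `P^n × S` given by sections is a closed immersion near a fibre on which it is one. -/
theorem exists_isClosedImmersion_nhd (f : X ⟶ S) [IsProper f] {L : X.Modules}
    {n : ℕ} (σ : Fin (n + 1) → Γ(L, ⊤)) (i : X ⟶ CohB1.ProjSpaceOver n S)
    (hif : i ≫ pullback.snd (CohB1.ProjSpace.toSpec n (ULift.{u} ℤ)) (specULiftZIsTerminal.from S) = f)
    (τ : (Scheme.Modules.pullback (i ≫ pullback.fst (CohB1.ProjSpace.toSpec n (ULift.{u} ℤ))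
      (specULiftZIsTerminal.from S))).obj (Twist.twistProjSpace n (ULift.{u} ℤ) 1) ≅ L)
    (hτ : ∀ l, τ.hom.app ⊤ (ProjUP.pullSec _ _ (ProjUP.coord n _ l)) = σ l)
    (s : S) (hfib : ∀ (r : f.fiber s ⟶ CohB1.ProjSpace n (S.residueField s)),
      r ≫ CohB1.ProjSpace.toSpec n (S.residueField s) = f.fiberToSpecResidueField s →
      ∀ τr : (Scheme.Modules.pullback r).obj (Twist.twistProjSpace n (S.residueField s) 1) ≅
          (Scheme.Modules.pullback (f.fiberι s)).obj L,
      (∀ l, τr.hom.app ⊤ (ProjUP.pullSec r _ (ProjUP.coord n _ l)) = pullSec (f.fiberι s) (U := ⊤) (σ l)) →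
      IsClosedImmersion r) :
    ∃ U : S.Opens, s ∈ U ∧ IsClosedImmersion
      (i ∣_ ((pullback.snd (CohB1.ProjSpace.toSpec n (ULift.{u} ℤ)) (specULiftZIsTerminal.from S)) ⁻¹ᵁ U)) := by
  subst hif
  let pr₁ := pullback.fst (CohB1.ProjSpace.toSpec n (ULift.{u} ℤ)) (specULiftZIsTerminal.from S)
  let h := pullback.snd (CohB1.ProjSpace.toSpec n (ULift.{u} ℤ)) (specULiftZIsTerminal.from S)
  haveI : IsProper (CohB1.ProjSpace.toSpec n (ULift.{u} ℤ)) := Coherent.isProper_projSpace_toSpec n _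
  haveI : IsProper h := MorphismProperty.pullback_snd (P := @IsProper) _ _ inferInstance
  let a := i ≫ pr₁
  have hhp : IsProper h := MorphismProperty.pullback_snd (P := @IsProper) _ _ inferInstance
  have hip : IsProper (i ≫ h) := inferInstance
  refine @MorProj.exists_isClosedImmersion_nhd_fibre _ _ _ i h s hip hhp ?_
  let K := S.residueField s
  let i_s : (i ≫ h).fiber s ⟶ h.fiber s := CohIII.fiberMapOver i (i ≫ h) h rfl s
  have his : i_s ≫ h.fiberι s = (i ≫ h).fiberι s ≫ i := pullback.lift_fst _ _ _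
  have hisK : i_s ≫ h.fiberToSpecResidueField s = (i ≫ h).fiberToSpecResidueField s :=
    (pullback.lift_snd _ _ _).trans (Category.comp_id _)
  -- the coordinates on the fibre of `P^n × S`
  let b : h.fiber s ⟶ CohB1.ProjSpace n (ULift.{u} ℤ) := h.fiberι s ≫ pr₁
  let O : (CohB1.ProjSpace n (ULift.{u} ℤ)).Modules := Twist.twistProjSpace n (ULift.{u} ℤ) 1
  let M := (Scheme.Modules.pullback b).obj O
  have hO : PicF.IsInvertible O :=
    PnEmb.isInvertible_twist_one (UPLib.adjoin_one_eq_top (UPLib.linForm_mem (R := ULift.{u} ℤ) n)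
      (UPLib.isSymmetricAlgebra_linForm n))
  let c : Fin (n + 1) → Γ(M, ⊤) := fun l => ProjUP.pullSec b O (ProjUP.coord n _ l)
  have hcov : ∀ z : h.fiber s, ∃ l, z ∈ glocus M (c l) := fun z => by
    obtain ⟨k, hk⟩ := Opens.mem_iSup.1 ((Proj.iSup_basicOpen_eq_top (CohB1.polyGrading n (ULift.{u} ℤ)) _
      (ProjLib.irrelevant_le_span_X n _)).ge (show b z ∈ (⊤ : (CohB1.ProjSpace n (ULift.{u} ℤ)).Opens) from trivial))
    exact ⟨k, (PnEmb.preimage_chartOpen b (Iso.refl M) (σ := c) (fun _ => rfl) k).le hk⟩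
  obtain ⟨ψ, hψ, τψ, hτψ⟩ :=
    UPLib.exists_hom_projSpace n (h.fiberToSpecResidueField s) (PicLoc.isInvertible_pullback b hO) c hcov
  -- the induced coordinates on the fibre of `X`
  have hab : i_s ≫ b = (i ≫ h).fiberι s ≫ a := by
    show i_s ≫ h.fiberι s ≫ pr₁ = (i ≫ h).fiberι s ≫ i ≫ pr₁
    exact ((Category.assoc _ _ _).symm.trans (congrArg (fun t => t ≫ pr₁) his)).trans (Category.assoc _ _ _)
  obtain ⟨c₁, hc₁⟩ := RelVALib.exists_compIso i_s b (i_s ≫ b) rfl O
  obtain ⟨c₂, hc₂⟩ := RelVALib.exists_compIso ((i ≫ h).fiberι s) a (i_s ≫ b) hab.symm O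
  let σ' : (Scheme.Modules.pullback i_s).obj M ≅ (Scheme.Modules.pullback ((i ≫ h).fiberι s)).obj L :=
    c₁.symm ≪≫ c₂ ≪≫ (Scheme.Modules.pullback _).mapIso τ
  obtain ⟨θ, hθ⟩ := exists_coordIso_ring i_s ψ τψ σ'
  haveI : IsSeparated (CohB1.ProjSpace.toSpec n K) := by
    have := Coherent.isProper_projSpace_toSpec n K
    infer_instance
  haveI : IsSeparated (ψ ≫ CohB1.ProjSpace.toSpec n K) := by
    have hsep : IsSeparated (h.fiberToSpecResidueField s) :=
      MorphismProperty.pullback_snd (P := @IsSeparated) _ _ inferInstance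
    exact Eq.subst (motive := @IsSeparated _ _) hψ.symm hsep
  haveI : IsSeparated ψ := IsSeparated.of_comp ψ (CohB1.ProjSpace.toSpec n K)
  haveI : IsClosedImmersion (i_s ≫ ψ) := by
    refine hfib (i_s ≫ ψ) (((Category.assoc _ _ _).trans (congrArg (fun t => i_s ≫ t) hψ)).trans hisK) θ fun l => ?_
    refine (hθ l).trans ((congrArg (fun t => σ'.hom.app ⊤ (pullSec i_s (U := ⊤) t)) (hτψ l)).trans ?_)
    rw [← hτ l]
    show ((Scheme.Modules.pullback _).map τ.hom).app ⊤ (c₂.hom.app ⊤ (c₁.inv.app ⊤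
      (pullSec i_s (U := ⊤) (ProjUP.pullSec b O (ProjUP.coord n _ l))))) = _
    have h1 : c₁.hom.app ⊤ (ProjUP.pullSec (i_s ≫ b) O (ProjUP.coord n _ l)) =
        pullSec i_s (U := ⊤) (ProjUP.pullSec b O (ProjUP.coord n _ l)) :=
      (hc₁ ⊤ _ le_rfl).trans (resM_self _ _ _)
    have h1' : c₁.inv.app ⊤ (pullSec i_s (U := ⊤) (ProjUP.pullSec b O (ProjUP.coord n _ l))) =
        ProjUP.pullSec (i_s ≫ b) O (ProjUP.coord n _ l) := by
      rw [← h1]
      show (c₁.hom ≫ c₁.inv).app ⊤ _ = _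
      rw [c₁.hom_inv_id]
      rfl
    have h2 : c₂.hom.app ⊤ (ProjUP.pullSec (i_s ≫ b) O (ProjUP.coord n _ l)) =
        pullSec ((i ≫ h).fiberι s) (U := ⊤) (ProjUP.pullSec a O (ProjUP.coord n _ l)) :=
      (hc₂ ⊤ _ le_rfl).trans (resM_self _ _ _)
    rw [h1', h2]
    exact RelVALib.map_app_pullSec _ τ.hom ⊤ _
  exact IsClosedImmersion.of_comp i_s ψ


variable (f : X ⟶ S) (L : X.Modules) [IsProper f] [Flat f] [LocallyOfFinitePresentation f]

/-- Finitely many sections span the sections on a fibre without first cohomology and have no common zero there. -/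
theorem exists_span_fibre [IsAffine S] [IsLocallyNoetherian S] (hL : PicF.IsInvertible L) (y : S)
    (hva : RelAmple.IsRelVeryAmplePn (f.fiberToSpecResidueField y) ((Scheme.Modules.pullback (f.fiberι y)).obj L))
    (h1 : Subsingleton (CohIII.fiberH f L y 1)) :
    ∃ (N : ℕ) (σ : Fin (N + 1) → Γ(L, ⊤)),
      (∀ z : Γ((Scheme.Modules.pullback (f.fiberι y)).obj L, ⊤), ∃ c : Fin (N + 1) → S.residueField y, comb
        (f.fiberToSpecResidueField y : f.fiber y ⟶ Spec (CommRingCat.of (S.residueField y)))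
        (fun l => Clifford24.fibSec f L y (σ l)) c = z) ∧
      ∀ x : X, f x = y → ∃ l, x ∈ glocus L (σ l) := by
  haveI : Coh.IsQCoh L := AmpleLib.isQCoh_of_isInvertible hL
  have hfp := RelVAFib14.isFP_of_isInvertible hL
  have hLf := RelVAFib14.isFinLocFree_of_isInvertible hL
  have hfl := CohBC.isFlatOver_of_isFinLocFree f hLf
  let R := (Scheme.Modules.pushforward f).obj L
  haveI : IsLocallyNoetherian X := LocallyOfFiniteType.isLocallyNoetherian f
  have hR : Coh.IsCoh R := Coherent.Existence.isCoh_push_of_isProper f (CohBC.isCoh_of_isFinLocFree hLf)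
  haveI hRq : Coh.IsQCoh R := hR.1
  haveI : Module.Finite Γ(S, ⊤) Γ(R, ⊤) := H8Lim.finite_sections_of_isFT hR.2 (isAffineOpen_top S)
  obtain ⟨N, m, hm⟩ := Module.Finite.exists_fin (R := Γ(S, ⊤)) (M := Γ(R, ⊤))
  let m' : Fin (N + 1) → Γ(R, ⊤) := Fin.cons 0 m
  have hm' : Submodule.span Γ(S, ⊤) (Set.range m') = ⊤ := by
    refine top_le_iff.1 (hm.ge.trans (Submodule.span_mono ?_))
    rintro _ ⟨l, rfl⟩
    exact ⟨l.succ, Fin.cons_succ _ _ _⟩
  let σ : Fin (N + 1) → Γ(L, ⊤) := fun l => m' l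
  have hspan : ∀ z : Γ((Scheme.Modules.pullback (f.fiberι y)).obj L, ⊤),
      ∃ c : Fin (N + 1) → S.residueField y, comb
        (f.fiberToSpecResidueField y : f.fiber y ⟶ Spec (CommRingCat.of (S.residueField y)))
        (fun l => Clifford24.fibSec f L y (σ l)) c = z := fun z => by
    haveI : IsIso (CohBC.bc0 f (S.fromSpecResidueField y) (f.fiberToSpecResidueField y) (f.fiberι y) (f.fiber_fac y) L) := by
      refine isIso_bc0_of_flat (IsPullback.of_hasPullback f (S.fromSpecResidueField y)) fun p => ?_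
      obtain ⟨C, hC, -, -, h0, -⟩ := exists_zero_chart hfp hfl (V := ⊤) (s := y) trivial 1 h1
      refine ⟨C, ?_, by simpa using h0⟩
      rw [Scheme.fromSpecResidueField_apply]
      exact hC
    exact Clifford24.exists_fibre_span f L y m' hm' z
  refine ⟨N, σ, hspan, fun x hx => ?_⟩
  obtain ⟨z, hz⟩ : x ∈ Set.range (f.fiberι y) := (f.range_fiberι y).ge hx
  let π : f.fiber y ⟶ Spec (CommRingCat.of (S.residueField y)) := f.fiberToSpecResidueField y
  haveI : IsProper π := MorphismProperty.pullback_snd (P := @IsProper) _ _ inferInstance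
  obtain ⟨l, hl⟩ := exists_mem_of_span π (PicLoc.isInvertible_pullback _ hL) hva _ hspan z
  rw [glocus_pullSec (f.fiberι y) hL (σ l)] at hl
  exact ⟨l, hz ▸ hl⟩

/-- Very ampleness near a fibre, for sections without common zero. -/
theorem exists_nhd_of_sections [IsAffine S] (hL : PicF.IsInvertible L) (y : S)
    (hva : RelAmple.IsRelVeryAmplePn (f.fiberToSpecResidueField y) ((Scheme.Modules.pullback (f.fiberι y)).obj L))
    {N : ℕ} (σ : Fin (N + 1) → Γ(L, ⊤))
    (hspan : ∀ z : Γ((Scheme.Modules.pullback (f.fiberι y)).obj L, ⊤), ∃ c : Fin (N + 1) → S.residueField y, comb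
      (f.fiberToSpecResidueField y : f.fiber y ⟶ Spec (CommRingCat.of (S.residueField y)))
      (fun l => Clifford24.fibSec f L y (σ l)) c = z)
    (hcov : ∀ x : X, ∃ l, x ∈ glocus L (σ l)) :
    ∃ U : S.Opens, y ∈ U ∧
      RelProj.IsRelVeryAmple (f ∣_ U) ((Scheme.Modules.pullback (f ⁻¹ᵁ U).ι).obj L) := by
  obtain ⟨r, -, τ, hτ⟩ := UPLib.exists_hom_projSpace N (specULiftZIsTerminal.from X) hL σ hcov
  let i : X ⟶ CohB1.ProjSpaceOver N S := pullback.lift r f (specULiftZIsTerminal.hom_ext _ _)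
  have hi1 : i ≫ pullback.fst _ _ = r := pullback.lift_fst _ _ _
  have hi2 : i ≫ pullback.snd _ _ = f := pullback.lift_snd _ _ _
  obtain ⟨τ', hτ'⟩ : ∃ τ' : (Scheme.Modules.pullback (i ≫ pullback.fst (CohB1.ProjSpace.toSpec N (ULift.{u} ℤ))
      (specULiftZIsTerminal.from S))).obj (Twist.twistProjSpace N (ULift.{u} ℤ) 1) ≅ L,
      ∀ l, τ'.hom.app ⊤ (ProjUP.pullSec _ _ (ProjUP.coord N _ l)) = σ l := by
    rw [hi1]; exact ⟨τ, hτ⟩
  obtain ⟨U₀, hyU₀, hU₀⟩ := exists_isClosedImmersion_nhd f σ i hi2 τ' hτ' y fun r' hr' τr hτr => by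
    let π : f.fiber y ⟶ Spec (CommRingCat.of (S.residueField y)) := f.fiberToSpecResidueField y
    haveI : IsProper π := MorphismProperty.pullback_snd (P := @IsProper) _ _ inferInstance
    exact isClosedImmersion_of_span π (PicLoc.isInvertible_pullback _ hL) hva
      (fun l => Clifford24.fibSec f L y (σ l)) hspan r' hr' τr hτr
  obtain ⟨U, hU, hyU, hUU₀⟩ := exists_isAffineOpen_mem_and_subset (X := S) (U := U₀) (x := y) hyU₀
  refine ⟨U, hyU, ?_⟩
  let h : CohB1.ProjSpaceOver N S ⟶ S :=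
    pullback.snd (CohB1.ProjSpace.toSpec N (ULift.{u} ℤ)) (specULiftZIsTerminal.from S)
  let V := h ⁻¹ᵁ U₀
  have hle : f ⁻¹ᵁ U ≤ i ⁻¹ᵁ V := fun x hx => by
    show (i ≫ h) x ∈ U₀
    rw [show i ≫ h = f from hi2]
    exact hUU₀ hx
  haveI : IsClosedImmersion (i ∣_ V) := hU₀
  haveI : IsImmersion ((f ⁻¹ᵁ U).ι ≫ i) := by
    rw [← X.homOfLE_ι hle, Category.assoc, ← morphismRestrict_ι]
    infer_instance
  haveI : IsAffine (U : Scheme.{u}) := hU
  haveI : IsProper (f ∣_ U) := IsZariskiLocalAtTarget.restrict (P := @IsProper) inferInstance U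
  let j := (f ⁻¹ᵁ U).ι
  have hjf : j ≫ f = (f ∣_ U) ≫ U.ι := (morphismRestrict_ι f U).symm
  haveI : QuasiCompact (j ≫ f) := by
    rw [hjf]
    infer_instance
  have hPn : RelAmple.IsRelVeryAmplePn (j ≫ f) ((Scheme.Modules.pullback j).obj L) :=
    ⟨N, j ≫ i, inferInstance, (Category.assoc _ _ _).trans (congrArg (j ≫ ·) hi2),
      ⟨(Scheme.Modules.pullback j).mapIso (τ'.symm ≪≫ ((Scheme.Modules.pullbackComp i (pullback.fst _ _)).app _).symm) ≪≫
        (Scheme.Modules.pullbackComp j i).app _⟩⟩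
  have hva' := RelVALib.isRelVeryAmple_of_isRelVeryAmplePn (j ≫ f) _ (PicLoc.isInvertible_pullback j hL) hPn
  rw [hjf] at hva'
  exact RelVALib.isRelVeryAmple_of_comp (f ∣_ U) U.ι hva'

set_option maxHeartbeats 2000000 in
/-- Very ampleness near a fibre. -/
theorem exists_nhd [IsAffine S] [IsLocallyNoetherian S] (hL : PicF.IsInvertible L) (y : S)
    (hva : RelAmple.IsRelVeryAmplePn (f.fiberToSpecResidueField y) ((Scheme.Modules.pullback (f.fiberι y)).obj L))
    (h1 : Subsingleton (CohIII.fiberH f L y 1)) :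
    ∃ U : S.Opens, y ∈ U ∧ RelProj.IsRelVeryAmple (f ∣_ U) (L.restrict (f ⁻¹ᵁ U).ι) := by
  haveI : Coh.IsQCoh L := AmpleLib.isQCoh_of_isInvertible hL
  have hfp := RelVAFib14.isFP_of_isInvertible hL
  obtain ⟨N, σ, -, hcov⟩ := exists_span_fibre f L hL y hva h1
  obtain ⟨W, hyW, hW⟩ := MorProj.exists_nhd_preimage_le f y (⨆ l, glocus L (σ l)) (fun x hx => by
    obtain ⟨l, hl⟩ := hcov x hx
    exact Opens.mem_iSup.2 ⟨l, hl⟩)
  obtain ⟨V, hV, hyV, hVW⟩ := exists_isAffineOpen_mem_and_subset (X := S) (U := W) (x := y) hyW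
  let f' := f ∣_ V
  haveI : IsAffine (V : Scheme.{u}) := hV
  have hpb := (isPullback_morphismRestrict f V).flip
  haveI : IsProper f' := MorphismProperty.of_isPullback hpb inferInstance
  haveI : Flat f' := MorphismProperty.of_isPullback hpb inferInstance
  haveI : LocallyOfFinitePresentation f' := MorphismProperty.of_isPullback hpb inferInstance
  let j := (f ⁻¹ᵁ V).ι
  let L' := (Scheme.Modules.pullback j).obj L
  have hL' : PicF.IsInvertible L' := PicLoc.isInvertible_pullback _ hL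
  haveI : Coh.IsQCoh L' := AmpleLib.isQCoh_of_isInvertible hL'
  let v : (V : Scheme.{u}) := ⟨y, hyV⟩
  have hva' : RelAmple.IsRelVeryAmplePn (f'.fiberToSpecResidueField v)
      ((Scheme.Modules.pullback (f'.fiberι v)).obj L') := by
    obtain ⟨t, ht, -, -, -, ⟨et⟩⟩ := CohBC.exists_fibre_square hpb L v
    haveI : IsIso (Spec.map (V.ι.residueFieldMap v)) := inferInstance
    haveI : IsIso t := ht.isIso_fst_of_isIso
    exact isRelVeryAmplePn_of_isoSquare (f.fiberToSpecResidueField (V.ι v)) (f'.fiberToSpecResidueField v) t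
      (Spec.map (V.ι.residueFieldMap v)) ht.w et hva
  have h1' : Subsingleton (CohIII.fiberH f' L' v 1) := by
    rw [subsingleton_fiberH_iff_rank (RelVAFib14.isFP_of_isInvertible hL') v 1, CohBC.fiberRank_pullback hpb L 1 v]
    exact (subsingleton_fiberH_iff_rank hfp (V.ι v) 1).1 h1
  obtain ⟨N', σ', hspan', -⟩ := exists_span_fibre f' L' hL' v hva' h1'
  -- the sections from the whole base keep the fibre covered
  let ρ : Fin (N + 1) → Γ(L', ⊤) := fun l => pullSec j (U := ⊤) (σ l)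
  let τ : Fin ((N' + 1) + (N + 1)) → Γ(L', ⊤) := Fin.append σ' ρ
  have hspanτ : ∀ z : Γ((Scheme.Modules.pullback (f'.fiberι v)).obj L', ⊤),
      ∃ c : Fin ((N' + 1) + (N + 1)) → (V : Scheme.{u}).residueField v, comb
        (f'.fiberToSpecResidueField v : f'.fiber v ⟶ Spec (CommRingCat.of ((V : Scheme.{u}).residueField v)))
        (fun l => Clifford24.fibSec f' L' v (τ l)) c = z := fun z => by
    obtain ⟨c, hc⟩ := hspan' z
    refine ⟨Fin.append c (fun _ : Fin (N + 1) => 0), Eq.trans ?_ hc⟩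
    simp only [comb]
    refine (Fin.sum_univ_add (a := N' + 1) (b := N + 1) _).trans ?_
    refine (congrArg₂ (· + ·) (Finset.sum_congr rfl fun l _ => ?_)
      (Finset.sum_eq_zero fun l _ => ?_)).trans (add_zero _)
    · simp [τ, Fin.append_left]
    · simp only [τ, Fin.append_right]
      exact (congrArg (· • _) (map_zero _)).trans (zero_smul _ _)
  have hcovτ : ∀ x, ∃ l, x ∈ glocus L' (τ l) := fun x => by
    obtain ⟨l, hl⟩ := Opens.mem_iSup.1 (hW (show f (j x) ∈ W from hVW x.2))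
    refine ⟨Fin.natAdd (N' + 1) l, ?_⟩
    show x ∈ glocus L' (Fin.append σ' ρ _)
    rw [Fin.append_right, glocus_pullSec j hL (σ l)]
    exact hl
  obtain ⟨U, hvU, hUva⟩ := exists_nhd_of_sections (N := N' + 1 + N) f' L' hL' v hva' τ hspanτ hcovτ
  let U₁ := V.ι ''ᵁ U
  refine ⟨U₁, ⟨v, hvU, rfl⟩, (RelVALib.isRelVeryAmple_restrict_iff _ _).2 ?_⟩
  have right := (isPullback_morphismRestrict f' U).flip.paste_horiz hpb
  have hr : Set.range U₁.ι = Set.range (U.ι ≫ V.ι) := by
    rw [Scheme.Opens.range_ι, Scheme.Hom.comp_base, TopCat.coe_comp, Set.range_comp, Scheme.Opens.range_ι]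
    rfl
  let φ : (U₁ : Scheme.{u}) ≅ (U : Scheme.{u}) := IsOpenImmersion.isoOfRangeEq U₁.ι (U.ι ≫ V.ι) hr
  have hφ : φ.hom ≫ (U.ι ≫ V.ι) = U₁.ι := IsOpenImmersion.isoOfRangeEq_hom_fac _ _ _
  have hbig := (isPullback_morphismRestrict f U₁).flip
  let g' := right.lift (f ⁻¹ᵁ U₁).ι ((f ∣_ U₁) ≫ φ.hom) (by rw [Category.assoc, hφ]; exact hbig.w)
  have hsq : IsPullback g' (f ∣_ U₁) (f' ∣_ U) φ.hom := by
    refine IsPullback.of_right ?_ (right.lift_snd _ _ _) right
    rw [hφ, right.lift_fst]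
    exact hbig
  have key := RelVALib.isRelVeryAmple_baseChange (f' ∣_ U) φ.hom g' (f ∣_ U₁) hsq _ hUva
  refine RelVALib.isRelVeryAmple_of_iso ?_ key
  exact (Scheme.Modules.pullbackCongr (right.lift_fst _ _ _).symm).app L ≪≫
    ((Scheme.Modules.pullbackComp g' ((f' ⁻¹ᵁ U).ι ≫ j)).app L).symm ≪≫
    (Scheme.Modules.pullback g').mapIso ((Scheme.Modules.pullbackComp (f' ⁻¹ᵁ U).ι j).app L).symm

end Groth.Agent.RelVANhd16
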